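import Cfsg.Agent.Chev.TwoGen.Table

/-! The derivations for the seven types. -/

set_option autoImplicit false
set_option maxRecDepth 100000

namespace CfsgLib.Chev.TwoGen.Cfgs

/-- Type `B2`. -/
def cfgB2 : GenCfg where
  word := [0, 1]
  alpha := 0
  beta := some 1
  tor := 2
  ops := [
    .conj 0, .inv 4 0, .split 3 0 3, .sum 0 5 0, .conj 3, .conj 5, .inv 2 1]

/-- Type `G2`. -/
def cfgG2 : GenCfg where
  word := [0, 1]
  alpha := 0
  beta := some 2
  tor := 5
  ops := [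
    .conj 0, .inv 1 0, .inv 6 1, .inv 11 6, .sum 5 11 0, .split 5 1 0, .brk 5 1, .sum 1 7 0,
    .conj 7, .inv 4 2, .conj 9]

/-- Type `D4`. -/
def cfgD4 : GenCfg where
  word := [0, 1, 2, 3]
  alpha := 1
  beta := some 2
  tor := 9
  ops := [
    .inv 9 1, .inv 5 9, .inv 22 5, .sum 1 9 0, .conj 0, .inv 4 0, .inv 17 4, .inv 23 17,
    .sum 1 23 0, .inv 18 14, .sum 6 23 0, .brk 1 1, .inv 3 7, .inv 12 3, .inv 16 12, .sum 1 12 0,
    .conj 7, .inv 20 16, .conj 2, .inv 13 2, .conj 8, .inv 15 13, .conj 10]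

/-- Type `F4`. -/
def cfgF4 : GenCfg where
  word := [0, 1, 2, 3]
  alpha := 0
  beta := some 3
  tor := 15
  ops := [
    .conj 0, .inv 1 0, .conj 15, .inv 2 1, .inv 6 2, .inv 26 6, .inv 32 26, .inv 47 32,
    .sum 0 32 0, .conj 5, .inv 24 5, .conj 17, .inv 25 24, .conj 4, .inv 31 25, .conj 16,
    .inv 43 31, .conj 22, .sum 15 47 0, .conj 42, .sum 21 47 0, .sum 21 43 0, .sum 32 41 0, .brk 21 1,
    .sum 6 18 0, .conj 18, .inv 8 18, .conj 3, .inv 10 3, .conj 34, .inv 13 10, .conj 37,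
    .inv 29 13, .conj 44, .inv 39 29, .sum 0 40 0, .conj 11, .inv 19 11, .conj 33, .inv 9 19,
    .conj 27, .inv 12 9, .conj 35, .inv 20 12, .conj 38, .inv 14 20, .conj 28]

/-- Type `E6`. -/
def cfgE6 : GenCfg where
  word := [0, 1, 2, 3, 4, 5]
  alpha := 7
  beta := none
  tor := 0
  ops := [
    .conj 7, .inv 21 7, .conj 2, .inv 14 21, .conj 17, .inv 45 14, .conj 31, .inv 66 45,
    .conj 33, .inv 53 66, .conj 62, .sum 7 33 0, .conj 5, .inv 18 5, .conj 26, .inv 3 18,
    .conj 57, .inv 9 3, .conj 50, .inv 38 9, .conj 64, .inv 40 38, .conj 69, .sum 7 62 0,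
    .conj 32, .inv 19 32, .conj 34, .inv 12 19, .conj 35, .inv 24 12, .conj 63, .inv 29 24,
    .conj 43, .inv 15 29, .conj 48, .sum 7 26 0, .conj 1, .inv 0 1, .conj 16, .inv 4 0,
    .conj 30, .inv 10 4, .conj 61, .inv 41 10, .conj 67, .inv 55 41, .conj 71, .sum 7 35 0,
    .conj 6, .inv 20 6, .conj 27, .inv 13 20, .conj 22, .inv 25 13, .conj 46, .inv 49 25,
    .conj 58, .inv 44 49, .conj 51, .sum 7 67 0, .conj 42, .inv 56 42, .conj 47, .inv 11 56,
    .conj 59, .inv 23 11, .conj 52, .inv 28 23, .conj 39, .inv 8 28, .conj 37]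

/-- Type `E7`. -/
def cfgE7 : GenCfg where
  word := [0, 1, 2, 3, 4, 5, 6]
  alpha := 21
  beta := none
  tor := 6
  ops := [
    .conj 21, .inv 41 21, .conj 12, .inv 30 41, .conj 37, .inv 47 30, .conj 18, .inv 82 47,
    .conj 49, .inv 76 82, .conj 43, .inv 107 76, .conj 78, .inv 88 107, .conj 95, .inv 113 88,
    .conj 84, .sum 21 12 0, .conj 0, .inv 6 0, .conj 1, .inv 16 6, .conj 2, .inv 26 16,
    .conj 7, .inv 72 26, .conj 33, .inv 92 72, .conj 53, .inv 118 92, .conj 99, .inv 123 118,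
    .conj 109, .inv 124 123, .conj 119, .sum 21 95 0, .conj 44, .inv 50 44, .conj 27, .inv 20 50,
    .conj 93, .inv 40 20, .conj 73, .inv 29 40, .conj 79, .inv 46 29, .conj 96, .inv 52 46,
    .conj 85, .inv 32 52, .conj 105, .inv 98 32, .conj 75, .sum 21 99 0, .conj 54, .inv 34 54,
    .conj 57, .inv 8 34, .conj 100, .inv 3 8, .conj 110, .inv 10 3, .conj 120, .inv 5 10,
    .conj 115, .inv 15 5, .conj 122, .inv 25 15, .conj 117, .inv 68 25, .conj 91, .sum 21 79 0,
    .conj 28, .inv 45 28, .conj 39, .inv 51 45, .conj 56, .inv 23 51, .conj 59, .inv 63 23,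
    .conj 61, .inv 64 63, .conj 62, .inv 66 64, .conj 102, .inv 69 66, .conj 74, .inv 86 69,
    .conj 80, .sum 21 57 0, .conj 17, .inv 35 17, .conj 48, .inv 9 35, .conj 94, .inv 4 9,
    .conj 83, .inv 13 4, .conj 103, .inv 22 13, .conj 112, .inv 42 22, .conj 121, .inv 31 42,
    .conj 116, .inv 77 31, .conj 90, .sum 21 59 0, .conj 19, .inv 38 19, .conj 11, .inv 14 38,
    .conj 36, .inv 24 14, .conj 55, .inv 65 24, .conj 58, .inv 67 65, .conj 60, .inv 70 67,
    .conj 101, .inv 89 70, .conj 111, .inv 114 89, .conj 87]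

/-- Type `E8`. -/
def cfgE8 : GenCfg where
  word := [0, 1, 2, 3, 4, 5, 6, 7]
  alpha := 0
  beta := none
  tor := 0
  ops := [
    .conj 0, .inv 1 0, .conj 15, .inv 2 1, .conj 21, .inv 3 2, .conj 36, .inv 4 3,
    .conj 78, .inv 5 4, .conj 105, .inv 13 5, .conj 169, .inv 35 13, .conj 184, .inv 55 35,
    .conj 204, .inv 70 55, .conj 226, .inv 134 70, .conj 234, .inv 161 134, .conj 235, .inv 203 161,
    .conj 236, .inv 218 203, .conj 237, .inv 224 218, .conj 238, .sum 0 235 0, .conj 110, .inv 106 110,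
    .conj 170, .inv 79 106, .conj 185, .inv 37 79, .conj 205, .inv 22 37, .conj 227, .inv 16 22,
    .conj 219, .inv 8 16, .conj 233, .inv 14 8, .conj 232, .inv 7 14, .conj 225, .inv 6 7,
    .conj 231, .inv 20 6, .conj 223, .inv 12 20, .conj 217, .inv 34 12, .conj 202, .inv 54 34,
    .conj 160, .inv 69 54, .conj 133, .sum 0 236 0, .conj 114, .inv 111 114, .conj 171, .inv 107 111,
    .conj 186, .inv 81 107, .conj 206, .inv 40 81, .conj 194, .inv 26 40, .conj 210, .inv 39 26,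
    .conj 229, .inv 24 39, .conj 221, .inv 18 24, .conj 215, .inv 10 18, .conj 200, .inv 29 10,
    .conj 213, .inv 45 29, .conj 199, .inv 33 45, .conj 158, .inv 53 33, .conj 132, .inv 68 53,
    .conj 128, .sum 0 237 0, .conj 117, .inv 115 117, .conj 172, .inv 112 115, .conj 187, .inv 108 112,
    .conj 152, .inv 84 108, .conj 178, .inv 46 84, .conj 191, .inv 58 46, .conj 209, .inv 83 58,
    .conj 196, .inv 43 83, .conj 156, .inv 30 43, .conj 181, .inv 48 30, .conj 193, .inv 61 48,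
    .conj 155, .inv 87 61, .conj 131, .inv 52 87, .conj 127, .inv 67 52, .conj 124, .sum 0 238 0,
    .conj 119, .inv 118 119, .conj 173, .inv 116 118, .conj 136, .inv 113 116, .conj 143, .inv 109 113,
    .conj 166, .inv 88 109, .conj 150, .inv 72 88, .conj 177, .inv 95 72, .conj 137, .inv 102 95,
    .conj 144, .inv 62 102, .conj 167, .inv 89 62, .conj 151, .inv 73 89, .conj 130, .inv 96 73,
    .conj 126, .inv 103 96, .conj 123, .inv 66 103, .conj 121, .sum 0 233 0, .conj 99, .inv 56 99,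
    .conj 163, .inv 80 56, .conj 147, .inv 38 80, .conj 174, .inv 23 38, .conj 188, .inv 17 23,
    .conj 207, .inv 9 17, .conj 228, .inv 25 9, .conj 220, .inv 19 25, .conj 214, .inv 11 19,
    .conj 230, .inv 32 11, .conj 222, .inv 51 32, .conj 216, .inv 65 51, .conj 201, .inv 92 65,
    .conj 159, .inv 76 92, .conj 183, .sum 0 232 0, .conj 93, .inv 100 93, .conj 141, .inv 57 100,
    .conj 164, .inv 82 57, .conj 148, .inv 41 82, .conj 175, .inv 27 41, .conj 189, .inv 42 27,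
    .conj 208, .inv 28 42, .conj 195, .inv 44 28, .conj 211, .inv 31 44, .conj 197, .inv 50 31,
    .conj 212, .inv 64 50, .conj 198, .inv 91 64, .conj 157, .inv 75 91, .conj 182, .inv 98 75,
    .conj 139, .sum 0 225 0, .conj 71, .inv 94 71, .conj 162, .inv 101 94, .conj 135, .inv 59 101,
    .conj 142, .inv 85 59, .conj 165, .inv 47 85, .conj 149, .inv 60 47, .conj 176, .inv 86 60,
    .conj 190, .inv 49 86, .conj 153, .inv 63 49, .conj 179, .inv 90 63, .conj 192, .inv 74 90,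
    .conj 154, .inv 97 74, .conj 180, .inv 104 97, .conj 138, .inv 77 104, .conj 145]

end CfsgLib.Chev.TwoGen.Cfgs
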